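import Mathlib
import Groth.Prelude.Def_DerCA
set_option linter.style.haveILetI false

/-!
# Mittag-Leffler systems of abelian groups
-/

set_option autoImplicit false
universe u w

open CategoryTheory CategoryTheory.Limits Opposite

namespace ML41

variable {ι : Type w} [Preorder ι]

/-- The transition map of an inverse system. -/
noncomputable abbrev tr (F : ιᵒᵖ ⥤ AddCommGrpCat.{u}) {i j : ι} (h : i ≤ j) :
    F.obj (op j) →+ F.obj (op i) := (F.map (homOfLE h).op).hom

lemma tr_tr (F : ιᵒᵖ ⥤ AddCommGrpCat.{u}) {i j k : ι} (h : i ≤ j) (h' : j ≤ k)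
    (x : F.obj (op k)) : tr F h (tr F h' x) = tr F (h.trans h') x := by
  change (F.map (homOfLE h').op ≫ F.map (homOfLE h).op).hom x = _
  rw [← F.map_comp]
  rfl

lemma tr_refl (F : ιᵒᵖ ⥤ AddCommGrpCat.{u}) (i : ι) (x : F.obj (op i)) :
    tr F (le_refl i) x = x := by
  change (F.map (homOfLE (le_refl i)).op).hom x = x
  rw [show (homOfLE (le_refl i)).op = 𝟙 (op i) from rfl, F.map_id]
  rfl

lemma app_tr {A B : ιᵒᵖ ⥤ AddCommGrpCat.{u}} (u : A ⟶ B) {i j : ι} (h : i ≤ j)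
    (x : A.obj (op j)) : (u.app (op i)).hom (tr A h x) = tr B h ((u.app (op j)).hom x) :=
  ConcreteCategory.congr_hom (u.naturality (homOfLE h).op) x

/-- Compatible families. -/
def Compat (F : ιᵒᵖ ⥤ AddCommGrpCat.{u}) (x : ∀ i, F.obj (op i)) : Prop :=
  ∀ ⦃i j : ι⦄ (h : i ≤ j), tr F h (x j) = x i

/-- Concrete form of the Mittag-Leffler condition. -/
def IsML (F : ιᵒᵖ ⥤ AddCommGrpCat.{u}) : Prop :=
  ∀ i, ∃ (j : ι) (h : i ≤ j), ∀ (k : ι) (hjk : j ≤ k) (x : F.obj (op j)),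
    ∃ y, tr F (h.trans hjk) y = tr F h x

lemma ml_iff_type [Nonempty ι] [IsDirected ι (· ≤ ·)] (G : ιᵒᵖ ⥤ Type u) :
    G.IsMittagLeffler ↔ ∀ i, ∃ (j : ι) (h : i ≤ j), ∀ (k : ι) (hjk : j ≤ k) (x : G.obj (op j)),
      ∃ y, G.map (homOfLE (h.trans hjk)).op y = G.map (homOfLE h).op x := by
  haveI : IsDirectedOrder ι := ‹_›
  haveI : IsFiltered ι := isFiltered_of_directed_le_nonempty ι
  rw [Functor.isMittagLeffler_iff_subset_range_comp]
  constructor
  · intro h i
    obtain ⟨⟨j⟩, f, hf⟩ := h (op i)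
    refine ⟨j, leOfHom f.unop, fun k hjk x => ?_⟩
    obtain ⟨y, hy⟩ := hf (homOfLE hjk).op ⟨x, rfl⟩
    exact ⟨y, hy⟩
  · rintro h ⟨i⟩
    obtain ⟨j, hij, hj⟩ := h i
    refine ⟨op j, (homOfLE hij).op, ?_⟩
    rintro ⟨k⟩ g _ ⟨x, rfl⟩
    obtain ⟨y, hy⟩ := hj k (leOfHom g.unop) x
    exact ⟨y, hy⟩

lemma ml_iff [Nonempty ι] [IsDirected ι (· ≤ ·)] (F : ιᵒᵖ ⥤ AddCommGrpCat.{u}) :
    (F ⋙ forget AddCommGrpCat.{u}).IsMittagLeffler ↔ IsML F :=
  ml_iff_type (F ⋙ forget AddCommGrpCat.{u})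

variable {A B C : ιᵒᵖ ⥤ AddCommGrpCat.{u}}

lemma isML_of_epi (v : B ⟶ C) (hv : ∀ i, Function.Surjective (v.app i).hom) (hB : IsML B) :
    IsML C := by
  intro i
  obtain ⟨j, h, hj⟩ := hB i
  refine ⟨j, h, fun k hjk x => ?_⟩
  obtain ⟨b, rfl⟩ := hv (op j) x
  obtain ⟨y, hy⟩ := hj k hjk b
  exact ⟨(v.app (op k)).hom y, by rw [← app_tr, hy, app_tr]⟩

lemma isML_of_extension (u : A ⟶ B) (v : B ⟶ C) (hv : ∀ i, Function.Surjective (v.app i).hom)
    (hex : ∀ i, (v.app i).hom.ker = (u.app i).hom.range) (hA : IsML A) (hC : IsML C) :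
    IsML B := by
  intro i
  obtain ⟨j, hij, hj⟩ := hA i
  obtain ⟨k, hjk, hk⟩ := hC j
  refine ⟨k, hij.trans hjk, fun l hkl x => ?_⟩
  obtain ⟨c, hc⟩ := hk l hkl ((v.app (op k)).hom x)
  obtain ⟨b', rfl⟩ := hv (op l) c
  rw [← app_tr, ← app_tr] at hc
  have : tr B hjk x - tr B (hjk.trans hkl) b' ∈ (v.app (op j)).hom.ker := by
    simp [hc]
  rw [hex] at this
  obtain ⟨a, ha⟩ := this
  obtain ⟨a', ha'⟩ := hj l (hjk.trans hkl) a
  refine ⟨b' + (u.app (op l)).hom a', ?_⟩
  rw [map_add, ← app_tr, ha', app_tr, ha, map_sub, tr_tr, tr_tr]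
  abel

lemma isML_of_eventually_surjective [IsDirected ι (· ≤ ·)] (F : ιᵒᵖ ⥤ AddCommGrpCat.{u})
    (j₀ : ι) (hs : ∀ ⦃i j⦄ (h : i ≤ j), j₀ ≤ i → Function.Surjective (tr F h)) : IsML F := by
  intro i
  obtain ⟨j, hij, hj⟩ := directed_of (· ≤ ·) i j₀
  refine ⟨j, hij, fun k hjk x => ?_⟩
  obtain ⟨y, rfl⟩ := hs hjk hj x
  exact ⟨y, (tr_tr F _ _ y).symm⟩

/-- A tower whose images stabilise in one step has surjective difference map. -/
lemma tower_solve {G : ℕ → Type u} [∀ n, AddCommGroup (G n)] (t : ∀ n, G (n + 1) →+ G n)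
    (ht : ∀ n x, ∃ y, t n (t (n + 1) y) = t n x) (d : ∀ n, G n) :
    ∃ a : ∀ n, G n, ∀ n, a n - t n (a (n + 1)) = d n := by
  have step : ∀ n (x : G (n + 1)), ∃ x' : G (n + 2),
      t n x = t n (d (n + 1) + t (n + 1) x') := by
    intro n x
    obtain ⟨y, hy⟩ := ht n (x - d (n + 1))
    exact ⟨y, by rw [map_add, hy, map_sub]; abel⟩
  choose s hs using step
  let xs : ∀ n, G (n + 1) := fun n => Nat.rec (motive := fun n => G (n + 1)) 0 (fun n x => s n x) n
  refine ⟨fun n => d n + t n (xs n), fun n => ?_⟩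
  show d n + t n (xs n) - t n (d (n + 1) + t (n + 1) (xs (n + 1))) = d n
  rw [← hs n (xs n)]
  abel

/-- A countable cofinal set gives a cofinal sequence along which the images stabilise in one step. -/
lemma exists_seq [Nonempty ι] [IsDirected ι (· ≤ ·)]
    (hcof : ∃ s : Set ι, s.Countable ∧ ∀ i, ∃ j ∈ s, i ≤ j) (hA : IsML A) :
    ∃ (e : ℕ → ι) (he : ∀ n, e n ≤ e (n + 1)), (∀ i, ∃ n, i ≤ e n) ∧
      ∀ n (x : A.obj (op (e (n + 1)))), ∃ y, tr A (he n) (tr A (he (n + 1)) y) = tr A (he n) x := by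
  obtain ⟨s, hs, hcof⟩ := hcof
  have hne : s.Nonempty := by
    obtain ⟨i⟩ := ‹Nonempty ι›
    obtain ⟨j, hj, -⟩ := hcof i
    exact ⟨j, hj⟩
  obtain ⟨f, hf⟩ := hs.exists_eq_range hne
  choose J hJ hJ' using hA
  have step : ∀ (n : ℕ) (i : ι), ∃ k, J i ≤ k ∧ f n ≤ k := fun n i =>
    directed_of (· ≤ ·) (J i) (f n)
  choose k hk hk' using step
  let e : ℕ → ι := fun n => Nat.rec (motive := fun _ => ι) (f 0) (fun n i => k n i) n
  have he : ∀ n, e n ≤ e (n + 1) := fun n => (hJ _).trans (hk n (e n))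
  refine ⟨e, he, fun i => ?_, fun n x => ?_⟩
  · obtain ⟨j, hj, hij⟩ := hcof i
    rw [hf] at hj
    obtain ⟨m, rfl⟩ := hj
    exact ⟨m + 1, hij.trans (hk' m (e m))⟩
  · obtain ⟨y, hy⟩ := hJ' (e n) (e (n + 2)) ((hk n (e n)).trans (he (n + 1)))
      (tr A (hk n (e n)) x)
    refine ⟨y, ?_⟩
    rw [tr_tr]
    rw [tr_tr] at hy
    exact hy

/-- The main lifting lemma: a family compatible modulo the image of a Mittag-Leffler system can be
made compatible. -/
lemma exists_compat [Nonempty ι] [IsDirected ι (· ≤ ·)]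
    (hcof : ∃ s : Set ι, s.Countable ∧ ∀ i, ∃ j ∈ s, i ≤ j)
    (u : A ⟶ B) (hA : IsML A) (b : ∀ i, B.obj (op i))
    (hb : ∀ ⦃i j⦄ (h : i ≤ j), ∃ a, (u.app (op i)).hom a = tr B h (b j) - b i) :
    ∃ x : ∀ i, B.obj (op i), Compat B x ∧ ∀ i, ∃ a, (u.app (op i)).hom a = x i - b i := by
  obtain ⟨e, he, hecof, hst⟩ := exists_seq hcof hA
  choose d hd using fun n => hb (he n)
  obtain ⟨a, ha⟩ := tower_solve (G := fun n => A.obj (op (e n))) (fun n => tr A (he n)) hst d
  let y : ∀ n, B.obj (op (e n)) := fun n => b (e n) + (u.app (op (e n))).hom (a n)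
  have hy : ∀ n, tr B (he n) (y (n + 1)) = y n := by
    intro n
    have h2 : tr A (he n) (a (n + 1)) = a n - d n := by rw [← ha n]; abel
    simp only [y, map_add, ← app_tr, h2, map_sub, hd]
    abel
  have hmono : ∀ {m n : ℕ}, m ≤ n → e m ≤ e n := fun h => monotone_nat_of_le_succ he h
  have hy' : ∀ m n (h : m ≤ n), tr B (hmono h) (y n) = y m := by
    intro m n h
    induction n, h using Nat.le_induction with
    | base => exact tr_refl B _ _
    | succ n hmn ih => rw [← tr_tr B (hmono hmn) (he n), hy, ih]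
  choose N hN using hecof
  refine ⟨fun i => tr B (hN i) (y (N i)), fun i j h => ?_, fun i => ?_⟩
  · show tr B h (tr B (hN j) (y (N j))) = tr B (hN i) (y (N i))
    rw [← hy' (N i) (max (N i) (N j)) (le_max_left _ _),
      ← hy' (N j) (max (N i) (N j)) (le_max_right _ _), tr_tr, tr_tr, tr_tr]
  · obtain ⟨c, hc⟩ := hb (hN i)
    refine ⟨c + tr A (hN i) (a (N i)), ?_⟩
    rw [map_add, hc, app_tr]
    simp only [y, map_add]
    abel

section Limit

variable {J : Type w} [Category.{w} J] {F : J ⥤ AddCommGrpCat.{max u w}} {c : Cone F}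

/-- Elements of a limit from compatible families. -/
lemma cone_mk (hc : IsLimit c) (x : ∀ j, F.obj j)
    (hx : ∀ {i j} (f : i ⟶ j), (F.map f).hom (x i) = x j) :
    ∃ y : c.pt, ∀ j, (c.π.app j).hom y = x j := by
  let h := isLimitOfPreserves (forget AddCommGrpCat.{max u w}) hc
  refine ⟨(Types.isLimitEquivSections h).symm ⟨x, fun f => hx f⟩, fun j => ?_⟩
  exact Types.isLimitEquivSections_symm_apply h ⟨x, fun f => hx f⟩ j

lemma cone_ext (hc : IsLimit c) {x y : c.pt} (h : ∀ j, (c.π.app j).hom x = (c.π.app j).hom y) :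
    x = y :=
  Concrete.isLimit_ext F hc x y h

end Limit

section Nat

variable {F : ℕᵒᵖ ⥤ AddCommGrpCat.{u}}

lemma exists_cofinal_nat : ∃ s : Set ℕ, s.Countable ∧ ∀ i, ∃ j ∈ s, i ≤ j :=
  ⟨Set.univ, Set.to_countable _, fun i => ⟨i, trivial, le_rfl⟩⟩

lemma compat_of_succ (x : ∀ n, F.obj (op n))
    (hx : ∀ n, tr F (Nat.le_succ n) (x (n + 1)) = x n) : Compat F x := by
  intro i j h
  induction j, h using Nat.le_induction with
  | base => exact tr_refl F _ _
  | succ n hmn ih => rw [← tr_tr F hmn (Nat.le_succ n), hx, ih]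

lemma isML_of_succ_surjective (h : ∀ n, Function.Surjective (tr F (Nat.le_succ n))) :
    IsML F := by
  refine isML_of_eventually_surjective F 0 fun i j hij _ => ?_
  induction j, hij using Nat.le_induction with
  | base => exact fun x => ⟨x, tr_refl F _ _⟩
  | succ n hmn ih =>
    intro x
    obtain ⟨y, rfl⟩ := ih x
    obtain ⟨z, rfl⟩ := h n y
    exact ⟨z, (tr_tr F _ _ z).symm⟩

/-- The difference map of a Mittag-Leffler tower is surjective. -/
lemma towerDiff_surjective (hF : IsML F) (d : ∀ n, F.obj (op n)) :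
    ∃ a : ∀ n, F.obj (op n), ∀ n, a n - tr F (Nat.le_succ n) (a (n + 1)) = d n := by
  obtain ⟨e, he, hecof, hst⟩ := exists_seq exists_cofinal_nat hF
  have hmono : ∀ {m n : ℕ}, m ≤ n → e m ≤ e n := fun h => monotone_nat_of_le_succ he h
  -- partial sums
  let s : ∀ i j : ℕ, F.obj (op i) := fun i j =>
    ∑ k ∈ Finset.range j, if h : i ≤ k then tr F h (d k) else 0
  have hs : ∀ {i j : ℕ} (h : i ≤ j) (l : ℕ), tr F h (s j l) = s i l - s i (min l j) := by
    intro i j h l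
    induction l with
    | zero => simp [s]
    | succ l ih =>
      simp only [s, Finset.sum_range_succ, map_add] at ih ⊢
      rw [ih]
      by_cases hl : j ≤ l
      · rw [dif_pos hl, dif_pos (h.trans hl), tr_tr, min_eq_right hl,
          min_eq_right (by omega : j ≤ l + 1)]
        abel
      · rw [dif_neg hl, map_zero, min_eq_left (by omega : l ≤ j),
          min_eq_left (by omega : l + 1 ≤ j), Finset.sum_range_succ]
        abel
  obtain ⟨a, ha⟩ := tower_solve (G := fun n => F.obj (op (e n))) (fun n => tr F (he n)) hst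
    (fun n => s (e n) (e (n + 1)))
  choose N hN using hecof
  let b : ∀ i, F.obj (op i) := fun i => s i (e (N i)) + tr F (hN i) (a (N i))
  have key : ∀ i n (hn : i ≤ e n), s i (e n) + tr F hn (a n) = b i := by
    have step : ∀ i n (hn : i ≤ e n),
        s i (e (n + 1)) + tr F (hn.trans (he n)) (a (n + 1)) = s i (e n) + tr F hn (a n) := by
      intro i n hn
      rw [show a n = s (e n) (e (n + 1)) + tr F (he n) (a (n + 1)) by rw [← ha n]; abel, map_add,
        hs, min_eq_right (he n), tr_tr]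
      abel
    have step' : ∀ i m n (hm : i ≤ e m) (hmn : m ≤ n),
        s i (e n) + tr F (hm.trans (hmono hmn)) (a n) = s i (e m) + tr F hm (a m) := by
      intro i m n hm hmn
      induction n, hmn using Nat.le_induction with
      | base => rfl
      | succ n hn ih => rw [step i n (hm.trans (hmono hn)), ih]
    intro i n hn
    rw [← step' i n (max n (N i)) hn (le_max_left _ _)]
    exact step' i (N i) (max n (N i)) (hN i) (le_max_right _ _)
  refine ⟨b, fun i => ?_⟩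
  have h1 : i + 1 ≤ e (N (i + 1)) := hN (i + 1)
  rw [← key i (N (i + 1)) ((Nat.le_succ i).trans h1)]
  show _ - tr F (Nat.le_succ i) (s (i + 1) (e (N (i + 1))) + tr F (hN (i + 1)) (a (N (i + 1)))) = d i
  rw [map_add, hs, tr_tr, min_eq_right h1]
  have h2 : s i (i + 1) = d i := by
    simp only [s, Finset.sum_range_succ]
    rw [dif_pos le_rfl, tr_refl, Finset.sum_eq_zero fun k hk => dif_neg (by
      simp at hk; omega), zero_add]
  rw [h2]
  abel

/-- An element of the eventual image extends to a compatible family. -/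
lemma exists_compat_of_eventual (hF : IsML F) (p : ℕ) (x : F.obj (op p))
    (hx : ∀ (k : ℕ) (h : p ≤ k), ∃ y, tr F h y = x) :
    ∃ s : ∀ n, F.obj (op n), Compat F s ∧ s p = x := by
  let E : ∀ n, Set (F.obj (op n)) := fun n => {x | ∀ (k : ℕ) (h : n ≤ k), ∃ y, tr F h y = x}
  have step : ∀ n (z : E n), ∃ w : E (n + 1), tr F (Nat.le_succ n) w.1 = z.1 := by
    intro n z
    obtain ⟨j, hj, hj'⟩ := hF (n + 1)
    obtain ⟨y, hy⟩ := z.2 j ((Nat.le_succ n).trans hj)
    refine ⟨⟨tr F hj y, fun k hk => ?_⟩, by rw [tr_tr]; exact hy⟩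
    obtain ⟨y', hy'⟩ := hj' (max j k) (le_max_left _ _) y
    exact ⟨tr F (le_max_right j k) y', by rw [tr_tr]; exact hy'⟩
  choose g hg using step
  let t : ∀ m, E (p + m) := fun m =>
    Nat.rec (motive := fun m => E (p + m)) ⟨x, hx⟩ (fun m z => g (p + m) z) m
  let t' : ∀ m, F.obj (op (p + m)) := fun m => (t m).1
  have hs : ∀ m, tr F (Nat.le_succ (p + m)) (t' (m + 1)) = t' m := fun m => hg (p + m) (t m)
  refine ⟨fun n => tr F (show n ≤ p + n by omega) (t' n), compat_of_succ _ fun n => ?_, ?_⟩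
  · show tr F (Nat.le_succ n) (tr F (show n + 1 ≤ p + (n + 1) by omega) (t' (n + 1))) =
      tr F (show n ≤ p + n by omega) (t' n)
    rw [← hs n, tr_tr, tr_tr]
  · show tr F (show p ≤ p + p by omega) (t' p) = x
    have : ∀ m, tr F (show p ≤ p + m by omega) (t' m) = x := by
      intro m
      induction m with
      | zero => exact tr_refl F _ _
      | succ m ih => rw [← ih, ← hs m, tr_tr]
    exact this p

lemma isML_of_essConstant {X₀ : AddCommGrpCat.{u}} {c : (Functor.const ℕᵒᵖ).obj X₀ ⟶ F}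
    (h : DerCA.IsEssConstant F X₀ c) : IsML F := by
  obtain ⟨i, s, -, hk⟩ := h
  intro j
  obtain ⟨k, hik, hjk, he⟩ := hk j
  refine ⟨k, hjk, fun l hkl x => ⟨(c.app (op l)).hom (s.hom (tr F hik x)), ?_⟩⟩
  have h1 : tr F (hjk.trans hkl) ((c.app (op l)).hom (s.hom (tr F hik x))) =
      (c.app (op j)).hom (s.hom (tr F hik x)) :=
    (app_tr c (hjk.trans hkl) (s.hom (tr F hik x))).symm
  rw [h1]
  exact (ConcreteCategory.congr_hom he x).symm

lemma isML_left_of_essConstant {A B : ℕᵒᵖ ⥤ AddCommGrpCat.{u}} (a : A ⟶ B) (b : B ⟶ F)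
    (ha : ∀ i, Function.Injective (a.app i).hom)
    (hex : ∀ i, (b.app i).hom.ker = (a.app i).hom.range) {X₀ : AddCommGrpCat.{u}}
    {c : (Functor.const ℕᵒᵖ).obj X₀ ⟶ F}
    (h : DerCA.IsEssConstant F X₀ c) (hB : IsML B) : IsML A := by
  obtain ⟨i₀, s, -, hk⟩ := h
  intro i
  obtain ⟨j, hj, hB'⟩ := hB (max i i₀)
  refine ⟨j, (le_max_left i i₀).trans hj, fun l hjl x => ?_⟩
  obtain ⟨k, hik, hlk, he⟩ := hk l
  obtain ⟨b', hb'⟩ := hB' (max k j) (le_max_right _ _) ((a.app (op j)).hom x)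
  have h0 : tr F (hik.trans (le_max_left k j)) ((b.app (op (max k j))).hom b') = 0 := by
    have e : tr F hj ((b.app (op j)).hom ((a.app (op j)).hom x)) = 0 := by
      have : (a.app (op j)).hom x ∈ (b.app (op j)).hom.ker := by rw [hex]; exact ⟨x, rfl⟩
      rw [AddMonoidHom.mem_ker.1 this, map_zero]
    rw [← app_tr, ← hb', app_tr] at e
    rw [← tr_tr F (le_max_right i i₀) (hj.trans (le_max_right k j)), e, map_zero]
  have h1 : (b.app (op l)).hom (tr B (hlk.trans (le_max_left k j)) b') = 0 := by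
    rw [app_tr, ← tr_tr F hlk (le_max_left k j)]
    have e := ConcreteCategory.congr_hom he (tr F (le_max_left k j) ((b.app (op (max k j))).hom b'))
    refine e.trans ?_
    show (c.app (op l)).hom (s.hom (tr F hik (tr F _ _))) = 0
    rw [tr_tr, h0, map_zero, map_zero]
  have h1' : tr B (hlk.trans (le_max_left k j)) b' ∈ (b.app (op l)).hom.ker := h1
  rw [hex] at h1'
  obtain ⟨a', ha'⟩ := h1'
  refine ⟨a', ha (op i) ?_⟩
  rw [app_tr, app_tr, ha', tr_tr, ← tr_tr B (le_max_left i i₀) hj, ← hb', tr_tr]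

end Nat

end ML41
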