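import Mathlib
import Groth.Agent.ML41.Basic
set_option linter.style.haveILetI false

/-!
# The higher derived limits of a tower of abelian groups vanish
-/

set_option autoImplicit false
universe u

open CategoryTheory CategoryTheory.Limits Opposite

namespace ML41

variable (I : ℕᵒᵖ ⥤ AddCommGrpCat.{u})

/-- The products of initial segments. -/
noncomputable def seg : ℕᵒᵖ ⥤ AddCommGrpCat.{u} where
  obj n := AddCommGrpCat.of (∀ k : {k : ℕ // k ≤ n.unop}, I.obj (op k.1))
  map f := AddCommGrpCat.ofHom (AddMonoidHom.mk'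
    (fun s k => s ⟨k.1, k.2.trans (leOfHom f.unop)⟩) (fun _ _ => rfl))
  map_id _ := rfl
  map_comp _ _ := rfl

/-- The embedding into the products. -/
noncomputable def toSeg : I ⟶ seg I where
  app n := AddCommGrpCat.ofHom (AddMonoidHom.mk'
    (fun x k => tr I k.2 x) (fun x y => funext fun k => map_add (tr I k.2) x y))
  naturality n m f := by
    ext x
    funext k
    exact tr_tr I k.2 (leOfHom f.unop) x

lemma mono_toSeg : Mono (toSeg I) := by
  have : ∀ n, Mono ((toSeg I).app n) := fun n => by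
    rw [AddCommGrpCat.mono_iff_injective]
    intro x y h
    have := congrFun h ⟨n.unop, le_rfl⟩
    exact (tr_refl I n.unop x).symm.trans (this.trans (tr_refl I n.unop y))
  exact NatTrans.mono_of_mono_app _

lemma seg_surjective (n : ℕ) : Function.Surjective (tr (seg I) (Nat.le_succ n)) := by
  intro s
  refine ⟨fun k => if h : k.1 ≤ n then s ⟨k.1, h⟩ else 0, funext fun k => ?_⟩
  exact dif_pos k.2

/-- Injective towers have surjective transition maps. -/
lemma injective_tower_surjective [Injective I] (n : ℕ) :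
    Function.Surjective (tr I (Nat.le_succ n)) := by
  haveI := mono_toSeg I
  intro x
  obtain ⟨s, hs⟩ := seg_surjective I n (((toSeg I).app (op n)).hom x)
  let r := Injective.factorThru (𝟙 I) (toSeg I)
  refine ⟨(r.app (op (n + 1))).hom s, ?_⟩
  rw [← app_tr r, hs]
  exact ConcreteCategory.congr_hom (congrArg (fun f => f.app (op n))
    (Injective.comp_factorThru (𝟙 I) (toSeg I))) x

variable {I}

lemma lim_π_map {A B : ℕᵒᵖ ⥤ AddCommGrpCat.{u}} (f : A ⟶ B) (x : (limit A : AddCommGrpCat.{u}))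
    (j : ℕᵒᵖ) : (limit.π B j).hom ((limMap f).hom x) = (f.app j).hom ((limit.π A j).hom x) :=
  ConcreteCategory.congr_hom (limMap_π f j) x

variable [(lim : (ℕᵒᵖ ⥤ AddCommGrpCat.{u}) ⥤ AddCommGrpCat.{u}).Additive]

/-- The limit of a levelwise exact complex of injective towers is exact in high degrees. -/
lemma exactAt_lim (J : CochainComplex (ℕᵒᵖ ⥤ AddCommGrpCat.{u}) ℕ) (hinj : ∀ p, Injective (J.X p))
    (m : ℕ) (hex : ∀ p, m < p → J.ExactAt p) :
    (((lim : (ℕᵒᵖ ⥤ AddCommGrpCat.{u}) ⥤ AddCommGrpCat.{u}).mapHomologicalComplex _).obj J).ExactAt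
      (m + 2) := by
  have hlev : ∀ (p : ℕ), m ≤ p → ∀ (n : ℕ) (x : (J.X (p + 1)).obj (op n)),
      ((J.d (p + 1) (p + 1 + 1)).app (op n)).hom x = 0 →
        ∃ y, ((J.d p (p + 1)).app (op n)).hom y = x := by
    intro p hp n x hx
    have h := (HomologicalComplex.exactAt_iff' J p (p + 1) (p + 1 + 1) (by simp) (by simp)).1
      (hex (p + 1) (by omega))
    exact (ShortComplex.ab_exact_iff _).1
      (h.map ((evaluation ℕᵒᵖ AddCommGrpCat.{u}).obj (op n))) x hx
  rw [HomologicalComplex.exactAt_iff' _ (m + 1) (m + 1 + 1) (m + 1 + 1 + 1) (by simp) (by simp),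
    ShortComplex.ab_exact_iff]
  intro (x : (limit (J.X (m + 1 + 1)) : AddCommGrpCat.{u}))
    (hx : (limMap (J.d (m + 1 + 1) (m + 1 + 1 + 1))).hom x = 0)
  have hx' : ∀ n, ((J.d (m + 1 + 1) (m + 1 + 1 + 1)).app (op n)).hom
      ((limit.π (J.X (m + 1 + 1)) (op n)).hom x) = 0 := fun n => by
    rw [← lim_π_map, hx, map_zero]
  choose y hy using fun n => hlev (m + 1) (by omega) n _ (hx' n)
  obtain ⟨z, hz, hz'⟩ := exists_compat exists_cofinal_nat (J.d m (m + 1))
    (isML_of_succ_surjective fun n => haveI := hinj m; injective_tower_surjective (J.X m) n) y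
    (fun i j hij => hlev m le_rfl i _ (by
      rw [map_sub, app_tr, hy, hy, sub_eq_zero]
      exact ConcreteCategory.congr_hom (limit.w (J.X (m + 1 + 1)) (homOfLE hij).op) x))
  obtain ⟨Z, hZ⟩ := cone_mk (limit.isLimit (J.X (m + 1))) (fun j => z j.unop)
    (fun f => hz (leOfHom f.unop))
  refine ⟨Z, cone_ext (limit.isLimit (J.X (m + 1 + 1))) fun j => ?_⟩
  obtain ⟨n⟩ := j
  show (limit.π (J.X (m + 1 + 1)) (op n)).hom ((limMap (J.d (m + 1) (m + 1 + 1))).hom Z) = _
  rw [lim_π_map]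
  obtain ⟨a, ha⟩ := hz' n
  have e : z n = y n + ((J.d m (m + 1)).app (op n)).hom a := by rw [ha]; abel
  rw [show (limit.π (J.X (m + 1)) (op n)).hom Z = z n from hZ (op n), e, map_add, hy]
  have h0 : ((J.d (m + 1) (m + 1 + 1)).app (op n)).hom (((J.d m (m + 1)).app (op n)).hom a) = 0 :=
    ConcreteCategory.congr_hom (congrArg (fun f => f.app (op n)) (J.d_comp_d m (m + 1) (m + 1 + 1))) a
  exact (congrArg (_ + ·) h0).trans (add_zero _)

theorem isZero_rightDerived_lim [EnoughInjectives (ℕᵒᵖ ⥤ AddCommGrpCat.{u})]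
    (A : ℕᵒᵖ ⥤ AddCommGrpCat.{u}) (i : ℕ) (hi : 2 ≤ i) :
    IsZero (((lim : (ℕᵒᵖ ⥤ AddCommGrpCat.{u}) ⥤ AddCommGrpCat.{u}).rightDerived i).obj A) := by
  obtain ⟨m, rfl⟩ : ∃ m, i = m + 2 := ⟨i - 2, by omega⟩
  let J := InjectiveResolution.of A
  refine IsZero.of_iso ?_ (J.isoRightDerivedObj _ (m + 2))
  refine (HomologicalComplex.exactAt_iff_isZero_homology _ _).1
    (exactAt_lim J.cocomplex J.injective m fun p hp => ?_)
  obtain ⟨q, rfl⟩ : ∃ q, p = q + 1 := ⟨p - 1, by omega⟩
  exact J.cocomplex_exactAt_succ q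

end ML41
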