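import Mathlib
import Groth.Prelude.Def_Formal2
import Groth.Agent.ML41.Homology
set_option linter.style.haveILetI false

/-!
# The kernel of the comparison map for a tower of complexes is `lim¹`
-/

set_option autoImplicit false
universe u

open CategoryTheory CategoryTheory.Limits Opposite

namespace ML41

/-- For a tower with surjective transition maps the difference map is surjective. -/
lemma exists_sub_tr {F : ℕᵒᵖ ⥤ AddCommGrpCat.{u}}
    (h : ∀ n, Function.Surjective (tr F (Nat.le_succ n))) (d : ∀ n, F.obj (op n)) :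
    ∃ a : ∀ n, F.obj (op n), ∀ n, a n - tr F (Nat.le_succ n) (a (n + 1)) = d n :=
  tower_solve (G := fun n => F.obj (op n)) (fun n => tr F (Nat.le_succ n))
    (fun n x => by obtain ⟨y, rfl⟩ := h (n + 1) x; exact ⟨y, rfl⟩) d

variable {K : ℕᵒᵖ ⥤ CochainComplex AddCommGrpCat.{u} ℤ}

/-- Families whose differences are cocycles. -/
noncomputable def diffCycles (K : ℕᵒᵖ ⥤ CochainComplex AddCommGrpCat.{u} ℤ) (q : ℤ) :
    AddSubgroup (∀ n : ℕ, (K.obj (op n)).X q) where
  carrier := {y | ∀ n, ((K.obj (op n)).d q (q + 1)).hom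
    (y n - trd K q (Nat.le_succ n) (y (n + 1))) = 0}
  zero_mem' n := by simp
  add_mem' {a b} ha hb n := by
    show ((K.obj (op n)).d q (q + 1)).hom
      (a n + b n - trd K q (Nat.le_succ n) (a (n + 1) + b (n + 1))) = 0
    rw [map_add, show a n + b n - (trd K q (Nat.le_succ n) (a (n + 1)) +
        trd K q (Nat.le_succ n) (b (n + 1))) = (a n - trd K q (Nat.le_succ n) (a (n + 1))) +
          (b n - trd K q (Nat.le_succ n) (b (n + 1))) by abel, map_add, ha, hb, add_zero]
  neg_mem' {a} ha n := by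
    show ((K.obj (op n)).d q (q + 1)).hom
      (-a n - trd K q (Nat.le_succ n) (-a (n + 1))) = 0
    rw [map_neg, show -a n - -(trd K q (Nat.le_succ n) (a (n + 1))) =
      -(a n - trd K q (Nat.le_succ n) (a (n + 1))) by abel, map_neg, ha, neg_zero]

variable {p q : ℤ}

lemma dcompat (hqp : q + 1 = p) (y : diffCycles K q) :
    Compat (deg K p) (fun n => ((K.obj (op n)).d q p).hom (y.1 n)) := by
  subst hqp
  refine compat_of_succ _ fun n => ?_
  have h := y.2 n
  rw [map_sub, sub_eq_zero] at h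
  show trd K (q + 1) (Nat.le_succ n) _ = ((K.obj (op n)).d q (q + 1)).hom (y.1 n)
  rw [tr_d]
  exact h.symm

/-- The cocycle of the limit attached to a family. -/
noncomputable def zLim (hqp : q + 1 = p) (y : diffCycles K q) : (limit K).X p :=
  (lim_mk p _ (dcompat hqp y)).choose

lemma zLim_spec (hqp : q + 1 = p) (y : diffCycles K q) (n : ℕ) :
    ((limit.π K (op n)).f p).hom (zLim hqp y) = ((K.obj (op n)).d q p).hom (y.1 n) :=
  (lim_mk p _ (dcompat hqp y)).choose_spec n

lemma zLim_cycle (hqp : q + 1 = p) (y : diffCycles K q) :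
    ((limit K).d p (p + 1)).hom (zLim hqp y) = 0 :=
  lim_cycle _ fun n => by rw [zLim_spec, d_d]

lemma zLim_add (hqp : q + 1 = p) (y y' : diffCycles K q) :
    zLim hqp (y + y') = zLim hqp y + zLim hqp y' :=
  lim_ext p fun n => by
    rw [map_add, zLim_spec, zLim_spec, zLim_spec]
    exact map_add _ _ _

/-- The map to the kernel of the comparison. -/
noncomputable def toKer (hqp : q + 1 = p) :
    diffCycles K q →+
      (limit.post K (HomologicalComplex.homologyFunctor _ _ p)).hom.ker :=
  AddMonoidHom.mk'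
    (fun y => ⟨cls _ (zLim hqp y) (zLim_cycle hqp y),
      (post_eq_zero_iff p q hqp _ _).2 fun n => ⟨y.1 n, (zLim_spec hqp y n).symm⟩⟩)
    (fun y y' => Subtype.ext (by
      show cls _ (zLim hqp (y + y')) (zLim_cycle hqp _) =
        cls _ (zLim hqp y) (zLim_cycle hqp y) + cls _ (zLim hqp y') (zLim_cycle hqp y')
      rw [← cls_add]
      exact cls_congr _ (zLim_add hqp y y') _ _))

/-- The transition maps on homology. -/
noncomputable abbrev hMap (K : ℕᵒᵖ ⥤ CochainComplex AddCommGrpCat.{u} ℤ) (q : ℤ) (n : ℕ) :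
    (K.obj (op (n + 1))).homology q →+ (K.obj (op n)).homology q :=
  (HomologicalComplex.homologyMap (K.map (homOfLE (Nat.le_succ n)).op) q).hom

/-- The group `lim¹` of the homology tower. -/
abbrev limOneH (K : ℕᵒᵖ ⥤ CochainComplex AddCommGrpCat.{u} ℤ) (q : ℤ) : Type u :=
  Formal2.limOne (fun n => (K.obj (op n)).homology q) (hMap K q)

/-- The classes of the differences. -/
noncomputable def diffCls (q : ℤ) : diffCycles K q →+ (∀ n : ℕ, (K.obj (op n)).homology q) :=
  AddMonoidHom.mk'
    (fun y n => cls (K.obj (op n)) (y.1 n - trd K q (Nat.le_succ n) (y.1 (n + 1))) (y.2 n))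
    (fun y y' => by
      funext n
      show _ = cls _ _ (y.2 n) + cls _ _ (y'.2 n)
      rw [← cls_add]
      apply cls_congr
      show y.1 n + y'.1 n - trd K q (Nat.le_succ n) (y.1 (n + 1) + y'.1 (n + 1)) = _
      rw [map_add]
      abel)

/-- The map to `lim¹`. -/
noncomputable def toLimOne (q : ℤ) : diffCycles K q →+ limOneH K q :=
  (QuotientAddGroup.mk' (Formal2.towerDiff (fun n => (K.obj (op n)).homology q) (hMap K q)).range).comp
    (diffCls q)

variable (hK : ∀ (n : ℕ) (r : ℤ), Function.Surjective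
  ((K.map (homOfLE (Nat.le_succ n)).op).f r).hom)

include hK

lemma isML_deg (r : ℤ) : IsML (deg K r) := isML_of_succ_surjective fun n => hK n r

lemma toLimOne_surjective : Function.Surjective (toLimOne (K := K) q) := by
  intro c
  induction c using QuotientAddGroup.induction_on with
  | H h =>
    choose z hz hzh using fun n => cls_surjective (K.obj (op n)) (h n)
    obtain ⟨y, hy⟩ := exists_sub_tr (F := deg K q) (fun n => hK n q) z
    let y' : ∀ n : ℕ, (K.obj (op n)).X q := y
    have hy' : ∀ n, y' n - trd K q (Nat.le_succ n) (y' (n + 1)) = z n := hy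
    refine ⟨⟨y', fun n => by rw [hy', hz]⟩, ?_⟩
    show QuotientAddGroup.mk' _ _ = _
    refine congrArg (QuotientAddGroup.mk' _) (funext fun n => ?_)
    exact (cls_congr _ (hy' n) (by rw [hy', hz]) (hz n)).trans (hzh n)

lemma toKer_surjective (hqp : q + 1 = p) : Function.Surjective (toKer (K := K) hqp) := by
  rintro ⟨c, hc⟩
  obtain ⟨Z, hZ, rfl⟩ := cls_surjective (limit K) c
  choose y hy using (post_eq_zero_iff p q hqp Z hZ).1 hc
  have hy' : y ∈ diffCycles K q := by
    subst hqp
    intro n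
    rw [map_sub, ← tr_d, hy, hy, sub_eq_zero]
    exact (lim_compat (q + 1) Z (Nat.le_succ n)).symm
  exact ⟨⟨y, hy'⟩, Subtype.ext (cls_congr (limit K)
    (lim_ext p fun n => (zLim_spec hqp ⟨y, hy'⟩ n).trans (hy n)) (zLim_cycle hqp ⟨y, hy'⟩) hZ)⟩

omit hK in
lemma toKer_eq_zero_iff (hqp : q + 1 = p) (y : diffCycles K q) :
    toKer hqp y = 0 ↔ ∃ Y : (limit K).X q,
      ∀ n, ((K.obj (op n)).d q p).hom (y.1 n) =
        ((K.obj (op n)).d q p).hom (((limit.π K (op n)).f q).hom Y) := by
  rw [Subtype.ext_iff]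
  show cls _ (zLim hqp y) (zLim_cycle hqp y) = 0 ↔ _
  rw [cls_eq_zero_iff _ hqp]
  refine exists_congr fun Y => ⟨fun h n => ?_, fun h => lim_ext p fun n => ?_⟩
  · rw [← zLim_spec hqp y n, ← h, f_d]
  · rw [f_d, zLim_spec, h]

lemma ker_toKer_eq (hqp : q + 1 = p) :
    (toKer (K := K) hqp).ker = (toLimOne (K := K) q).ker := by
  subst hqp
  ext y
  rw [AddMonoidHom.mem_ker, AddMonoidHom.mem_ker, toKer_eq_zero_iff]
  show _ ↔ (QuotientAddGroup.mk' (Formal2.towerDiff _ (hMap K q)).range
      fun n => cls _ (y.1 n - trd K q (Nat.le_succ n) (y.1 (n + 1))) (y.2 n)) = 0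
  rw [QuotientAddGroup.mk'_apply, QuotientAddGroup.eq_zero_iff]
  constructor
  · rintro ⟨Y, hY⟩
    have hw : ∀ n, ((K.obj (op n)).d q (q + 1)).hom
        (y.1 n - ((limit.π K (op n)).f q).hom Y) = 0 := fun n => by rw [map_sub, hY, sub_self]
    refine ⟨fun n => cls _ _ (hw n), funext fun n => ?_⟩
    have hc : trd K q (Nat.le_succ n) (((limit.π K (op (n + 1))).f q).hom Y) =
        ((limit.π K (op n)).f q).hom Y := lim_compat q Y (Nat.le_succ n)
    show cls _ _ (hw n) - (HomologicalComplex.homologyMap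
      (K.map (homOfLE (Nat.le_succ n)).op) q).hom (cls _ _ (hw (n + 1))) = _
    rw [map_cls, ← cls_sub]
    apply cls_congr
    show _ - trd K q (Nat.le_succ n) _ = _
    rw [map_sub, hc]
    abel
  · rintro ⟨h, hh⟩
    choose w hw hwh using fun n => cls_surjective (K.obj (op n)) (h n)
    have hex : ∀ n, ∃ g, ((K.obj (op n)).d (q - 1) q).hom g =
        (y.1 n - w n) - trd K q (Nat.le_succ n) (y.1 (n + 1) - w (n + 1)) := by
      intro n
      have hh' : h n - hMap K q n (h (n + 1)) =
          cls _ (y.1 n - trd K q (Nat.le_succ n) (y.1 (n + 1))) (y.2 n) := congrFun hh n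
      rw [← hwh, ← hwh, hMap, map_cls, ← cls_sub] at hh'
      have e : (y.1 n - w n) - trd K q (Nat.le_succ n) (y.1 (n + 1) - w (n + 1)) =
          (y.1 n - trd K q (Nat.le_succ n) (y.1 (n + 1))) -
            (w n - trd K q (Nat.le_succ n) (w (n + 1))) := by rw [map_sub]; abel
      have hw2 : ((K.obj (op n)).d q (q + 1)).hom
          (w n - trd K q (Nat.le_succ n) (w (n + 1))) = 0 := by
        rw [map_sub, ← tr_d, hw, hw, map_zero, sub_zero]
      have h2 : ((K.obj (op n)).d q (q + 1)).hom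
          ((y.1 n - w n) - trd K q (Nat.le_succ n) (y.1 (n + 1) - w (n + 1))) = 0 := by
        rw [e, map_sub, y.2 n, hw2, sub_zero]
      refine (cls_eq_zero_iff _ (by omega) _ h2).1 ?_
      rw [cls_congr _ e h2 (by rw [map_sub, y.2 n, hw2, sub_zero]), cls_sub _ _ _ (y.2 n) hw2,
        sub_eq_zero]
      exact hh'.symm
    choose g hg using hex
    obtain ⟨e₀, he⟩ := exists_sub_tr (F := deg K (q - 1)) (fun n => hK n (q - 1)) g
    let e : ∀ n : ℕ, (K.obj (op n)).X (q - 1) := e₀
    have he' : ∀ n, e n - trd K (q - 1) (Nat.le_succ n) (e (n + 1)) = g n := he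
    let Y' : ∀ n : ℕ, (K.obj (op n)).X q := fun n =>
      y.1 n - w n - ((K.obj (op n)).d (q - 1) q).hom (e n)
    obtain ⟨Y, hY⟩ := lim_mk q Y' (compat_of_succ _ fun n => by
      show trd K q (Nat.le_succ n) (Y' (n + 1)) = Y' n
      have := hg n
      rw [← he' n, map_sub, ← tr_d] at this
      simp only [Y', map_sub] at this ⊢
      rw [eq_sub_iff_add_eq] at this
      rw [sub_eq_iff_eq_add] at ⊢
      rw [← this]
      abel)
    refine ⟨Y, fun n => ?_⟩
    rw [hY]
    show _ = ((K.obj (op n)).d q (q + 1)).hom (Y' n)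
    simp only [Y', map_sub, hw, sub_zero, d_d]

theorem ker_post_equiv_limOne (hqp : q + 1 = p) :
    Nonempty ((limit.post K (HomologicalComplex.homologyFunctor _ _ p)).hom.ker ≃+ limOneH K q) := by
  let f := toKer (K := K) hqp
  let g := toLimOne (K := K) q
  let e1 := QuotientAddGroup.quotientKerEquivOfSurjective f (toKer_surjective hK hqp)
  let e2 := QuotientAddGroup.quotientKerEquivOfSurjective g (toLimOne_surjective hK)
  let e3 : diffCycles K q ⧸ f.ker ≃+ diffCycles K q ⧸ g.ker :=
    QuotientAddGroup.quotientAddEquivOfEq (ker_toKer_eq hK hqp)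
  exact ⟨(e1.symm.trans e3).trans e2⟩

end ML41
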